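import Cfsg.Agent.Lib.H34.Fi22b.PData

set_option autoImplicit false
set_option maxRecDepth 100000
set_option Elab.async false

noncomputable section

namespace H34.Fi22b

open H34.T2

theorem v0 : loop2 (fun i => Nat.beq (Z i) 0) 5 16 0 = true := by decide +kernel
theorem v1 : loop2 (fun i => Nat.beq (Z i) 0) 5 16 80 = true := by decide +kernel
theorem v2 : loop2 (fun i => Nat.beq (Z i) 0) 5 16 160 = true := by decide +kernel
theorem v3 : loop2 (fun i => Nat.beq (Z i) 0) 5 16 240 = true := by decide +kernel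
theorem v4 : loop2 (fun i => Nat.beq (Z i) 0) 5 16 320 = true := by decide +kernel
theorem v5 : loop2 (fun i => Nat.beq (Z i) 0) 5 16 400 = true := by decide +kernel
theorem v6 : loop2 (fun i => Nat.beq (Z i) 0) 5 16 480 = true := by decide +kernel
theorem v7 : loop2 (fun i => Nat.beq (Z i) 0) 5 16 560 = true := by decide +kernel
theorem v8 : loop2 (fun i => Nat.beq (Z i) 0) 5 16 640 = true := by decide +kernel
theorem v9 : loop2 (fun i => Nat.beq (Z i) 0) 5 16 720 = true := by decide +kernel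
theorem v10 : loop2 (fun i => Nat.beq (Z i) 0) 5 16 800 = true := by decide +kernel
theorem v11 : loop2 (fun i => Nat.beq (Z i) 0) 5 16 880 = true := by decide +kernel
theorem v12 : loop2 (fun i => Nat.beq (Z i) 0) 5 16 960 = true := by decide +kernel
theorem v13 : loop2 (fun i => Nat.beq (Z i) 0) 5 16 1040 = true := by decide +kernel
theorem v14 : loop2 (fun i => Nat.beq (Z i) 0) 5 16 1120 = true := by decide +kernel
theorem v15 : loop2 (fun i => Nat.beq (Z i) 0) 5 16 1200 = true := by decide +kernel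
theorem v16 : loop2 (fun i => Nat.beq (Z i) 0) 5 16 1280 = true := by decide +kernel
theorem v17 : loop2 (fun i => Nat.beq (Z i) 0) 5 16 1360 = true := by decide +kernel
theorem v18 : loop2 (fun i => Nat.beq (Z i) 0) 5 16 1440 = true := by decide +kernel
theorem v19 : loop2 (fun i => Nat.beq (Z i) 0) 5 16 1520 = true := by decide +kernel
theorem v20 : loop2 (fun i => Nat.beq (Z i) 0) 5 16 1600 = true := by decide +kernel
theorem v21 : loop2 (fun i => Nat.beq (Z i) 0) 5 16 1680 = true := by decide +kernel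
theorem v22 : loop2 (fun i => Nat.beq (Z i) 0) 5 16 1760 = true := by decide +kernel
theorem v23 : loop2 (fun i => Nat.beq (Z i) 0) 5 16 1840 = true := by decide +kernel
theorem v24 : loop2 (fun i => Nat.beq (Z i) 0) 5 16 1920 = true := by decide +kernel
theorem v25 : loop2 (fun i => Nat.beq (Z i) 0) 5 16 2000 = true := by decide +kernel
theorem v26 : loop2 (fun i => Nat.beq (Z i) 0) 5 16 2080 = true := by decide +kernel
theorem v27 : loop2 (fun i => Nat.beq (Z i) 0) 5 16 2160 = true := by decide +kernel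
theorem v28 : loop2 (fun i => Nat.beq (Z i) 0) 5 16 2240 = true := by decide +kernel
theorem v29 : loop2 (fun i => Nat.beq (Z i) 0) 5 16 2320 = true := by decide +kernel
theorem v30 : loop2 (fun i => Nat.beq (Z i) 0) 5 16 2400 = true := by decide +kernel
theorem v31 : loop2 (fun i => Nat.beq (Z i) 0) 5 16 2480 = true := by decide +kernel
theorem v32 : loop2 (fun i => Nat.beq (Z i) 0) 5 16 2560 = true := by decide +kernel
theorem v33 : loop2 (fun i => Nat.beq (Z i) 0) 5 16 2640 = true := by decide +kernel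
theorem v34 : loop2 (fun i => Nat.beq (Z i) 0) 5 16 2720 = true := by decide +kernel
theorem v35 : loop2 (fun i => Nat.beq (Z i) 0) 5 16 2800 = true := by decide +kernel
theorem v36 : loop2 (fun i => Nat.beq (Z i) 0) 5 16 2880 = true := by decide +kernel
theorem v37 : loop2 (fun i => Nat.beq (Z i) 0) 5 16 2960 = true := by decide +kernel
theorem v38 : loop2 (fun i => Nat.beq (Z i) 0) 5 16 3040 = true := by decide +kernel
theorem v39 : loop2 (fun i => Nat.beq (Z i) 0) 5 16 3120 = true := by decide +kernel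
theorem v40 : loop2 (fun i => Nat.beq (Z i) 0) 5 16 3200 = true := by decide +kernel
theorem v41 : loop2 (fun i => Nat.beq (Z i) 0) 5 16 3280 = true := by decide +kernel
theorem v42 : loop2 (fun i => Nat.beq (Z i) 0) 5 16 3360 = true := by decide +kernel
theorem v43 : loop2 (fun i => Nat.beq (Z i) 0) 5 16 3440 = true := by decide +kernel
theorem v44 : loop2 (fun i => Nat.beq (Z i) 0) 5 16 3520 = true := by decide +kernel
theorem v45 : loop2 (fun i => Nat.beq (Z i) 0) 5 16 3600 = true := by decide +kernel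
theorem v46 : loop2 (fun i => Nat.beq (Z i) 0) 5 16 3680 = true := by decide +kernel
theorem v47 : loop2 (fun i => Nat.beq (Z i) 0) 5 16 3760 = true := by decide +kernel
theorem v48 : loop2 (fun i => Nat.beq (Z i) 0) 5 16 3840 = true := by decide +kernel
theorem v49 : loop2 (fun i => Nat.beq (Z i) 0) 5 16 3920 = true := by decide +kernel
theorem v50 : loop2 (fun i => Nat.beq (Z i) 0) 5 16 4000 = true := by decide +kernel
theorem v51 : loop2 (fun i => Nat.beq (Z i) 0) 5 16 4080 = true := by decide +kernel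
theorem v52 : loop2 (fun i => Nat.beq (Z i) 0) 5 16 4160 = true := by decide +kernel
theorem v53 : loop2 (fun i => Nat.beq (Z i) 0) 5 16 4240 = true := by decide +kernel
theorem v54 : loop2 (fun i => Nat.beq (Z i) 0) 5 16 4320 = true := by decide +kernel
theorem v55 : loop2 (fun i => Nat.beq (Z i) 0) 5 16 4400 = true := by decide +kernel
theorem v56 : loop2 (fun i => Nat.beq (Z i) 0) 5 16 4480 = true := by decide +kernel
theorem v57 : loop2 (fun i => Nat.beq (Z i) 0) 5 16 4560 = true := by decide +kernel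
theorem v58 : loop2 (fun i => Nat.beq (Z i) 0) 5 16 4640 = true := by decide +kernel
theorem v59 : loop2 (fun i => Nat.beq (Z i) 0) 5 16 4720 = true := by decide +kernel
theorem v60 : loop2 (fun i => Nat.beq (Z i) 0) 5 16 4800 = true := by decide +kernel
theorem v61 : loop2 (fun i => Nat.beq (Z i) 0) 5 16 4880 = true := by decide +kernel
theorem v62 : loop2 (fun i => Nat.beq (Z i) 0) 5 16 4960 = true := by decide +kernel
theorem v63 : loop2 (fun i => Nat.beq (Z i) 0) 5 16 5040 = true := by decide +kernel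
theorem v64 : loop2 (fun i => Nat.beq (Z i) 0) 5 16 5120 = true := by decide +kernel
theorem v65 : loop2 (fun i => Nat.beq (Z i) 0) 5 16 5200 = true := by decide +kernel
theorem v66 : loop2 (fun i => Nat.beq (Z i) 0) 5 16 5280 = true := by decide +kernel
theorem v67 : loop2 (fun i => Nat.beq (Z i) 0) 5 16 5360 = true := by decide +kernel
theorem v68 : loop2 (fun i => Nat.beq (Z i) 0) 5 16 5440 = true := by decide +kernel
theorem v69 : loop2 (fun i => Nat.beq (Z i) 0) 5 16 5520 = true := by decide +kernel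
theorem v70 : loop2 (fun i => Nat.beq (Z i) 0) 5 16 5600 = true := by decide +kernel
theorem v71 : loop2 (fun i => Nat.beq (Z i) 0) 5 16 5680 = true := by decide +kernel
theorem v72 : loop2 (fun i => Nat.beq (Z i) 0) 5 16 5760 = true := by decide +kernel
theorem v73 : loop2 (fun i => Nat.beq (Z i) 0) 5 16 5840 = true := by decide +kernel
theorem v74 : loop2 (fun i => Nat.beq (Z i) 0) 5 16 5920 = true := by decide +kernel
theorem v75 : loop2 (fun i => Nat.beq (Z i) 0) 5 16 6000 = true := by decide +kernel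
theorem v76 : loop2 (fun i => Nat.beq (Z i) 0) 5 16 6080 = true := by decide +kernel
theorem v77 : loop2 (fun i => Nat.beq (Z i) 0) 5 16 6160 = true := by decide +kernel
theorem v78 : loop2 (fun i => Nat.beq (Z i) 0) 5 16 6240 = true := by decide +kernel
theorem v79 : loop2 (fun i => Nat.beq (Z i) 0) 5 16 6320 = true := by decide +kernel
theorem v80 : loop2 (fun i => Nat.beq (Z i) 0) 5 16 6400 = true := by decide +kernel
theorem v81 : loop2 (fun i => Nat.beq (Z i) 0) 5 16 6480 = true := by decide +kernel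
theorem v82 : loop2 (fun i => Nat.beq (Z i) 0) 5 16 6560 = true := by decide +kernel
theorem v83 : loop2 (fun i => Nat.beq (Z i) 0) 5 16 6640 = true := by decide +kernel
theorem v84 : loop2 (fun i => Nat.beq (Z i) 0) 5 16 6720 = true := by decide +kernel
theorem v85 : loop2 (fun i => Nat.beq (Z i) 0) 5 16 6800 = true := by decide +kernel
theorem v86 : loop2 (fun i => Nat.beq (Z i) 0) 5 16 6880 = true := by decide +kernel
theorem v87 : loop2 (fun i => Nat.beq (Z i) 0) 5 16 6960 = true := by decide +kernel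
theorem z0 : RngF (fun _ z => z = 0) Z 0 7040 := (RngF.app (RngF.app (RngF.app (RngF.app (RngF.app (RngF.app (rngZ_of_loop 80 v0 rfl) (rngZ_of_loop 160 v1 rfl)) (RngF.app (rngZ_of_loop 240 v2 rfl) (RngF.app (rngZ_of_loop 320 v3 rfl) (rngZ_of_loop 400 v4 rfl)))) (RngF.app (RngF.app (rngZ_of_loop 480 v5 rfl) (RngF.app (rngZ_of_loop 560 v6 rfl) (rngZ_of_loop 640 v7 rfl))) (RngF.app (rngZ_of_loop 720 v8 rfl) (RngF.app (rngZ_of_loop 800 v9 rfl) (rngZ_of_loop 880 v10 rfl))))) (RngF.app (RngF.app (RngF.app (rngZ_of_loop 960 v11 rfl) (rngZ_of_loop 1040 v12 rfl)) (RngF.app (rngZ_of_loop 1120 v13 rfl) (RngF.app (rngZ_of_loop 1200 v14 rfl) (rngZ_of_loop 1280 v15 rfl)))) (RngF.app (RngF.app (rngZ_of_loop 1360 v16 rfl) (RngF.app (rngZ_of_loop 1440 v17 rfl) (rngZ_of_loop 1520 v18 rfl))) (RngF.app (rngZ_of_loop 1600 v19 rfl) (RngF.app (rngZ_of_loop 1680 v20 rfl) (rngZ_of_loop 1760 v21 rfl)))))) (RngF.app (RngF.app (RngF.app (RngF.app (rngZ_of_loop 1840 v22 rfl) (rngZ_of_loop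 1920 v23 rfl)) (RngF.app (rngZ_of_loop 2000 v24 rfl) (RngF.app (rngZ_of_loop 2080 v25 rfl) (rngZ_of_loop 2160 v26 rfl)))) (RngF.app (RngF.app (rngZ_of_loop 2240 v27 rfl) (RngF.app (rngZ_of_loop 2320 v28 rfl) (rngZ_of_loop 2400 v29 rfl))) (RngF.app (rngZ_of_loop 2480 v30 rfl) (RngF.app (rngZ_of_loop 2560 v31 rfl) (rngZ_of_loop 2640 v32 rfl))))) (RngF.app (RngF.app (RngF.app (rngZ_of_loop 2720 v33 rfl) (rngZ_of_loop 2800 v34 rfl)) (RngF.app (rngZ_of_loop 2880 v35 rfl) (RngF.app (rngZ_of_loop 2960 v36 rfl) (rngZ_of_loop 3040 v37 rfl)))) (RngF.app (RngF.app (rngZ_of_loop 3120 v38 rfl) (RngF.app (rngZ_of_loop 3200 v39 rfl) (rngZ_of_loop 3280 v40 rfl))) (RngF.app (rngZ_of_loop 3360 v41 rfl) (RngF.app (rngZ_of_loop 3440 v42 rfl) (rngZ_of_loop 3520 v43 rfl))))))) (RngF.app (RngF.app (RngF.app (RngF.app (RngF.app (rngZ_of_loop 3600 v44 rfl) (rngZ_of_loop 3680 v45 rfl)) (RngF.app (rngZ_of_loop 3760 v46 rfl) (RngF.app (rngZ_of_loop 3840 v47 rfl) (rngZ_of_loop 3920 v48 rfl))))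 (RngF.app (RngF.app (rngZ_of_loop 4000 v49 rfl) (RngF.app (rngZ_of_loop 4080 v50 rfl) (rngZ_of_loop 4160 v51 rfl))) (RngF.app (rngZ_of_loop 4240 v52 rfl) (RngF.app (rngZ_of_loop 4320 v53 rfl) (rngZ_of_loop 4400 v54 rfl))))) (RngF.app (RngF.app (RngF.app (rngZ_of_loop 4480 v55 rfl) (rngZ_of_loop 4560 v56 rfl)) (RngF.app (rngZ_of_loop 4640 v57 rfl) (RngF.app (rngZ_of_loop 4720 v58 rfl) (rngZ_of_loop 4800 v59 rfl)))) (RngF.app (RngF.app (rngZ_of_loop 4880 v60 rfl) (RngF.app (rngZ_of_loop 4960 v61 rfl) (rngZ_of_loop 5040 v62 rfl))) (RngF.app (rngZ_of_loop 5120 v63 rfl) (RngF.app (rngZ_of_loop 5200 v64 rfl) (rngZ_of_loop 5280 v65 rfl)))))) (RngF.app (RngF.app (RngF.app (RngF.app (rngZ_of_loop 5360 v66 rfl) (rngZ_of_loop 5440 v67 rfl)) (RngF.app (rngZ_of_loop 5520 v68 rfl) (RngF.app (rngZ_of_loop 5600 v69 rfl) (rngZ_of_loop 5680 v70 rfl)))) (RngF.app (RngF.app (rngZ_of_loop 5760 v71 rfl) (RngF.app (rngZ_of_loop 5840 v72 rfl) (rngZ_of_loop 5920 v73 rfl))) (RngF.app (rngZ_of_loop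 6000 v74 rfl) (RngF.app (rngZ_of_loop 6080 v75 rfl) (rngZ_of_loop 6160 v76 rfl))))) (RngF.app (RngF.app (RngF.app (rngZ_of_loop 6240 v77 rfl) (rngZ_of_loop 6320 v78 rfl)) (RngF.app (rngZ_of_loop 6400 v79 rfl) (RngF.app (rngZ_of_loop 6480 v80 rfl) (rngZ_of_loop 6560 v81 rfl)))) (RngF.app (RngF.app (rngZ_of_loop 6640 v82 rfl) (RngF.app (rngZ_of_loop 6720 v83 rfl) (rngZ_of_loop 6800 v84 rfl))) (RngF.app (rngZ_of_loop 6880 v85 rfl) (RngF.app (rngZ_of_loop 6960 v86 rfl) (rngZ_of_loop 7040 v87 rfl))))))))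

end H34.Fi22b
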