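import Cfsg.Agent.Lib.H34.Fi22b.PData

set_option autoImplicit false
set_option maxRecDepth 100000
set_option Elab.async false

noncomputable section

namespace H34.Fi22b

open H34.T2

theorem v88 : loop2 (fun i => Nat.beq (Z i) 0) 5 16 7040 = true := by decide +kernel
theorem v89 : loop2 (fun i => Nat.beq (Z i) 0) 5 16 7120 = true := by decide +kernel
theorem v90 : loop2 (fun i => Nat.beq (Z i) 0) 5 16 7200 = true := by decide +kernel
theorem v91 : loop2 (fun i => Nat.beq (Z i) 0) 5 16 7280 = true := by decide +kernel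
theorem v92 : loop2 (fun i => Nat.beq (Z i) 0) 5 16 7360 = true := by decide +kernel
theorem v93 : loop2 (fun i => Nat.beq (Z i) 0) 5 16 7440 = true := by decide +kernel
theorem v94 : loop2 (fun i => Nat.beq (Z i) 0) 5 16 7520 = true := by decide +kernel
theorem v95 : loop2 (fun i => Nat.beq (Z i) 0) 5 16 7600 = true := by decide +kernel
theorem v96 : loop2 (fun i => Nat.beq (Z i) 0) 5 16 7680 = true := by decide +kernel
theorem v97 : loop2 (fun i => Nat.beq (Z i) 0) 5 16 7760 = true := by decide +kernel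
theorem v98 : loop2 (fun i => Nat.beq (Z i) 0) 5 16 7840 = true := by decide +kernel
theorem v99 : loop2 (fun i => Nat.beq (Z i) 0) 5 16 7920 = true := by decide +kernel
theorem v100 : loop2 (fun i => Nat.beq (Z i) 0) 5 16 8000 = true := by decide +kernel
theorem v101 : loop2 (fun i => Nat.beq (Z i) 0) 5 16 8080 = true := by decide +kernel
theorem v102 : loop2 (fun i => Nat.beq (Z i) 0) 5 16 8160 = true := by decide +kernel
theorem v103 : loop2 (fun i => Nat.beq (Z i) 0) 5 16 8240 = true := by decide +kernel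
theorem v104 : loop2 (fun i => Nat.beq (Z i) 0) 5 16 8320 = true := by decide +kernel
theorem v105 : loop2 (fun i => Nat.beq (Z i) 0) 5 16 8400 = true := by decide +kernel
theorem v106 : loop2 (fun i => Nat.beq (Z i) 0) 5 16 8480 = true := by decide +kernel
theorem v107 : loop2 (fun i => Nat.beq (Z i) 0) 5 16 8560 = true := by decide +kernel
theorem v108 : loop2 (fun i => Nat.beq (Z i) 0) 5 16 8640 = true := by decide +kernel
theorem v109 : loop2 (fun i => Nat.beq (Z i) 0) 5 16 8720 = true := by decide +kernel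
theorem v110 : loop2 (fun i => Nat.beq (Z i) 0) 5 16 8800 = true := by decide +kernel
theorem v111 : loop2 (fun i => Nat.beq (Z i) 0) 5 16 8880 = true := by decide +kernel
theorem v112 : loop2 (fun i => Nat.beq (Z i) 0) 5 16 8960 = true := by decide +kernel
theorem v113 : loop2 (fun i => Nat.beq (Z i) 0) 5 16 9040 = true := by decide +kernel
theorem v114 : loop2 (fun i => Nat.beq (Z i) 0) 5 16 9120 = true := by decide +kernel
theorem v115 : loop2 (fun i => Nat.beq (Z i) 0) 5 16 9200 = true := by decide +kernel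
theorem v116 : loop2 (fun i => Nat.beq (Z i) 0) 5 16 9280 = true := by decide +kernel
theorem v117 : loop2 (fun i => Nat.beq (Z i) 0) 5 16 9360 = true := by decide +kernel
theorem v118 : loop2 (fun i => Nat.beq (Z i) 0) 5 16 9440 = true := by decide +kernel
theorem v119 : loop2 (fun i => Nat.beq (Z i) 0) 5 16 9520 = true := by decide +kernel
theorem v120 : loop2 (fun i => Nat.beq (Z i) 0) 5 16 9600 = true := by decide +kernel
theorem v121 : loop2 (fun i => Nat.beq (Z i) 0) 5 16 9680 = true := by decide +kernel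
theorem v122 : loop2 (fun i => Nat.beq (Z i) 0) 5 16 9760 = true := by decide +kernel
theorem v123 : loop2 (fun i => Nat.beq (Z i) 0) 5 16 9840 = true := by decide +kernel
theorem v124 : loop2 (fun i => Nat.beq (Z i) 0) 5 16 9920 = true := by decide +kernel
theorem v125 : loop2 (fun i => Nat.beq (Z i) 0) 5 16 10000 = true := by decide +kernel
theorem v126 : loop2 (fun i => Nat.beq (Z i) 0) 5 16 10080 = true := by decide +kernel
theorem v127 : loop2 (fun i => Nat.beq (Z i) 0) 5 16 10160 = true := by decide +kernel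
theorem v128 : loop2 (fun i => Nat.beq (Z i) 0) 5 16 10240 = true := by decide +kernel
theorem v129 : loop2 (fun i => Nat.beq (Z i) 0) 5 16 10320 = true := by decide +kernel
theorem v130 : loop2 (fun i => Nat.beq (Z i) 0) 5 16 10400 = true := by decide +kernel
theorem v131 : loop2 (fun i => Nat.beq (Z i) 0) 5 16 10480 = true := by decide +kernel
theorem v132 : loop2 (fun i => Nat.beq (Z i) 0) 5 16 10560 = true := by decide +kernel
theorem v133 : loop2 (fun i => Nat.beq (Z i) 0) 5 16 10640 = true := by decide +kernel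
theorem v134 : loop2 (fun i => Nat.beq (Z i) 0) 5 16 10720 = true := by decide +kernel
theorem v135 : loop2 (fun i => Nat.beq (Z i) 0) 5 16 10800 = true := by decide +kernel
theorem v136 : loop2 (fun i => Nat.beq (Z i) 0) 5 16 10880 = true := by decide +kernel
theorem v137 : loop2 (fun i => Nat.beq (Z i) 0) 5 16 10960 = true := by decide +kernel
theorem v138 : loop2 (fun i => Nat.beq (Z i) 0) 5 16 11040 = true := by decide +kernel
theorem v139 : loop2 (fun i => Nat.beq (Z i) 0) 5 16 11120 = true := by decide +kernel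
theorem v140 : loop2 (fun i => Nat.beq (Z i) 0) 5 16 11200 = true := by decide +kernel
theorem v141 : loop2 (fun i => Nat.beq (Z i) 0) 5 16 11280 = true := by decide +kernel
theorem v142 : loop2 (fun i => Nat.beq (Z i) 0) 5 16 11360 = true := by decide +kernel
theorem v143 : loop2 (fun i => Nat.beq (Z i) 0) 5 16 11440 = true := by decide +kernel
theorem v144 : loop2 (fun i => Nat.beq (Z i) 0) 5 16 11520 = true := by decide +kernel
theorem v145 : loop2 (fun i => Nat.beq (Z i) 0) 5 16 11600 = true := by decide +kernel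
theorem v146 : loop2 (fun i => Nat.beq (Z i) 0) 5 16 11680 = true := by decide +kernel
theorem v147 : loop2 (fun i => Nat.beq (Z i) 0) 5 16 11760 = true := by decide +kernel
theorem v148 : loop2 (fun i => Nat.beq (Z i) 0) 5 16 11840 = true := by decide +kernel
theorem v149 : loop2 (fun i => Nat.beq (Z i) 0) 5 16 11920 = true := by decide +kernel
theorem v150 : loop2 (fun i => Nat.beq (Z i) 0) 5 16 12000 = true := by decide +kernel
theorem v151 : loop2 (fun i => Nat.beq (Z i) 0) 5 16 12080 = true := by decide +kernel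
theorem v152 : loop2 (fun i => Nat.beq (Z i) 0) 5 16 12160 = true := by decide +kernel
theorem v153 : loop2 (fun i => Nat.beq (Z i) 0) 5 16 12240 = true := by decide +kernel
theorem v154 : loop2 (fun i => Nat.beq (Z i) 0) 5 16 12320 = true := by decide +kernel
theorem v155 : loop2 (fun i => Nat.beq (Z i) 0) 5 16 12400 = true := by decide +kernel
theorem v156 : loop2 (fun i => Nat.beq (Z i) 0) 5 16 12480 = true := by decide +kernel
theorem v157 : loop2 (fun i => Nat.beq (Z i) 0) 5 16 12560 = true := by decide +kernel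
theorem v158 : loop2 (fun i => Nat.beq (Z i) 0) 5 16 12640 = true := by decide +kernel
theorem v159 : loop2 (fun i => Nat.beq (Z i) 0) 5 16 12720 = true := by decide +kernel
theorem v160 : loop2 (fun i => Nat.beq (Z i) 0) 5 16 12800 = true := by decide +kernel
theorem v161 : loop2 (fun i => Nat.beq (Z i) 0) 5 16 12880 = true := by decide +kernel
theorem v162 : loop2 (fun i => Nat.beq (Z i) 0) 5 16 12960 = true := by decide +kernel
theorem v163 : loop2 (fun i => Nat.beq (Z i) 0) 5 16 13040 = true := by decide +kernel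
theorem v164 : loop2 (fun i => Nat.beq (Z i) 0) 5 16 13120 = true := by decide +kernel
theorem v165 : loop2 (fun i => Nat.beq (Z i) 0) 5 16 13200 = true := by decide +kernel
theorem v166 : loop2 (fun i => Nat.beq (Z i) 0) 5 16 13280 = true := by decide +kernel
theorem v167 : loop2 (fun i => Nat.beq (Z i) 0) 5 16 13360 = true := by decide +kernel
theorem v168 : loop2 (fun i => Nat.beq (Z i) 0) 5 16 13440 = true := by decide +kernel
theorem v169 : loop2 (fun i => Nat.beq (Z i) 0) 5 16 13520 = true := by decide +kernel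
theorem v170 : loop2 (fun i => Nat.beq (Z i) 0) 5 16 13600 = true := by decide +kernel
theorem v171 : loop2 (fun i => Nat.beq (Z i) 0) 5 16 13680 = true := by decide +kernel
theorem v172 : loop2 (fun i => Nat.beq (Z i) 0) 5 16 13760 = true := by decide +kernel
theorem v173 : loop2 (fun i => Nat.beq (Z i) 0) 5 16 13840 = true := by decide +kernel
theorem v174 : loop2 (fun i => Nat.beq (Z i) 0) 5 16 13920 = true := by decide +kernel
theorem v175 : loop2 (fun i => Nat.beq (Z i) 0) 5 16 14000 = true := by decide +kernel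
theorem z1 : RngF (fun _ z => z = 0) Z 7040 14080 := (RngF.app (RngF.app (RngF.app (RngF.app (RngF.app (RngF.app (rngZ_of_loop 7120 v88 rfl) (rngZ_of_loop 7200 v89 rfl)) (RngF.app (rngZ_of_loop 7280 v90 rfl) (RngF.app (rngZ_of_loop 7360 v91 rfl) (rngZ_of_loop 7440 v92 rfl)))) (RngF.app (RngF.app (rngZ_of_loop 7520 v93 rfl) (RngF.app (rngZ_of_loop 7600 v94 rfl) (rngZ_of_loop 7680 v95 rfl))) (RngF.app (rngZ_of_loop 7760 v96 rfl) (RngF.app (rngZ_of_loop 7840 v97 rfl) (rngZ_of_loop 7920 v98 rfl))))) (RngF.app (RngF.app (RngF.app (rngZ_of_loop 8000 v99 rfl) (rngZ_of_loop 8080 v100 rfl)) (RngF.app (rngZ_of_loop 8160 v101 rfl) (RngF.app (rngZ_of_loop 8240 v102 rfl) (rngZ_of_loop 8320 v103 rfl)))) (RngF.app (RngF.app (rngZ_of_loop 8400 v104 rfl) (RngF.app (rngZ_of_loop 8480 v105 rfl) (rngZ_of_loop 8560 v106 rfl))) (RngF.app (rngZ_of_loop 8640 v107 rfl) (RngF.app (rngZ_of_loop 8720 v108 rfl) (rngZ_of_loop 8800 v109 rfl)))))) (RngF.app (RngF.app (RngF.app (RngF.app (rngZ_of_loop 8880 v110 rfl)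 (rngZ_of_loop 8960 v111 rfl)) (RngF.app (rngZ_of_loop 9040 v112 rfl) (RngF.app (rngZ_of_loop 9120 v113 rfl) (rngZ_of_loop 9200 v114 rfl)))) (RngF.app (RngF.app (rngZ_of_loop 9280 v115 rfl) (RngF.app (rngZ_of_loop 9360 v116 rfl) (rngZ_of_loop 9440 v117 rfl))) (RngF.app (rngZ_of_loop 9520 v118 rfl) (RngF.app (rngZ_of_loop 9600 v119 rfl) (rngZ_of_loop 9680 v120 rfl))))) (RngF.app (RngF.app (RngF.app (rngZ_of_loop 9760 v121 rfl) (rngZ_of_loop 9840 v122 rfl)) (RngF.app (rngZ_of_loop 9920 v123 rfl) (RngF.app (rngZ_of_loop 10000 v124 rfl) (rngZ_of_loop 10080 v125 rfl)))) (RngF.app (RngF.app (rngZ_of_loop 10160 v126 rfl) (RngF.app (rngZ_of_loop 10240 v127 rfl) (rngZ_of_loop 10320 v128 rfl))) (RngF.app (rngZ_of_loop 10400 v129 rfl) (RngF.app (rngZ_of_loop 10480 v130 rfl) (rngZ_of_loop 10560 v131 rfl))))))) (RngF.app (RngF.app (RngF.app (RngF.app (RngF.app (rngZ_of_loop 10640 v132 rfl) (rngZ_of_loop 10720 v133 rfl)) (RngF.app (rngZ_of_loop 10800 v134 rfl) (RngF.app (rngZ_of_loop 10880 v135 rfl)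 (rngZ_of_loop 10960 v136 rfl)))) (RngF.app (RngF.app (rngZ_of_loop 11040 v137 rfl) (RngF.app (rngZ_of_loop 11120 v138 rfl) (rngZ_of_loop 11200 v139 rfl))) (RngF.app (rngZ_of_loop 11280 v140 rfl) (RngF.app (rngZ_of_loop 11360 v141 rfl) (rngZ_of_loop 11440 v142 rfl))))) (RngF.app (RngF.app (RngF.app (rngZ_of_loop 11520 v143 rfl) (rngZ_of_loop 11600 v144 rfl)) (RngF.app (rngZ_of_loop 11680 v145 rfl) (RngF.app (rngZ_of_loop 11760 v146 rfl) (rngZ_of_loop 11840 v147 rfl)))) (RngF.app (RngF.app (rngZ_of_loop 11920 v148 rfl) (RngF.app (rngZ_of_loop 12000 v149 rfl) (rngZ_of_loop 12080 v150 rfl))) (RngF.app (rngZ_of_loop 12160 v151 rfl) (RngF.app (rngZ_of_loop 12240 v152 rfl) (rngZ_of_loop 12320 v153 rfl)))))) (RngF.app (RngF.app (RngF.app (RngF.app (rngZ_of_loop 12400 v154 rfl) (rngZ_of_loop 12480 v155 rfl)) (RngF.app (rngZ_of_loop 12560 v156 rfl) (RngF.app (rngZ_of_loop 12640 v157 rfl) (rngZ_of_loop 12720 v158 rfl)))) (RngF.app (RngF.app (rngZ_of_loop 12800 v159 rfl) (RngF.app (rngZ_of_loop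 12880 v160 rfl) (rngZ_of_loop 12960 v161 rfl))) (RngF.app (rngZ_of_loop 13040 v162 rfl) (RngF.app (rngZ_of_loop 13120 v163 rfl) (rngZ_of_loop 13200 v164 rfl))))) (RngF.app (RngF.app (RngF.app (rngZ_of_loop 13280 v165 rfl) (rngZ_of_loop 13360 v166 rfl)) (RngF.app (rngZ_of_loop 13440 v167 rfl) (RngF.app (rngZ_of_loop 13520 v168 rfl) (rngZ_of_loop 13600 v169 rfl)))) (RngF.app (RngF.app (rngZ_of_loop 13680 v170 rfl) (RngF.app (rngZ_of_loop 13760 v171 rfl) (rngZ_of_loop 13840 v172 rfl))) (RngF.app (rngZ_of_loop 13920 v173 rfl) (RngF.app (rngZ_of_loop 14000 v174 rfl) (rngZ_of_loop 14080 v175 rfl))))))))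

end H34.Fi22b
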