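import Cfsg.Agent.Lib.H34.Fi22b.U0
import Cfsg.Agent.Lib.H34.Fi22b.U1
import Cfsg.Agent.Lib.H34.Fi22b.V0
import Cfsg.Agent.Lib.H34.Fi22b.V1
import Cfsg.Agent.Lib.H34.T2Main
import Cfsg.Prelude.Def_Spor_Fi22

set_option autoImplicit false
set_option maxRecDepth 100000
set_option Elab.async false

noncomputable section

namespace H34.Fi22b

open H34.T2 H34.TC Cfsg.Spor

noncomputable def gens : List Cfsg.Spor.Fi22.Gen := [.a, .b, .c, .d, .e, .f, .g, .h, .i]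

theorem hg : ∀ x, x ∈ gens := by intro x; cases x <;> decide

theorem hn : ∀ x, x ∈ coxNodes Cfsg.Spor.Fi22.edges := by intro x; cases x <;> decide

theorem hnd : gens.Nodup := by decide

theorem hbase : baseChk gens Cfsg.Spor.Fi22.edges Cfsg.Spor.Fi22.extra base = true := by decide +kernel

theorem hrel : relChk gens Cfsg.Spor.Fi22.edges Cfsg.Spor.Fi22.extra base = true := by decide +kernel

noncomputable def K (c x : Nat) : Nat := (Nat.land (Nat.shiftRight c (Nat.mul (Nat.land x (nat_lit 4095)) (nat_lit 44))) (nat_lit 17592186044415))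

theorem r0 : RngF (fun i e => ∃ J, chkS (enF enL) E D W0 DL0 subs 15485 0 i e J = true) F0 0 16384 := (RngF.brK (K := K) (f0 := (brF 4096 (fun _ => C0_0) (fun _ => C0_1))) (f1 := (brF 12288 (fun _ => C0_2) (fun _ => C0_3))) (RngF.brK (K := K) (f0 := (fun _ => C0_0)) (f1 := (fun _ => C0_1)) r0_0 r0_1) (RngF.brK (K := K) (f0 := (fun _ => C0_2)) (f1 := (fun _ => C0_3)) r0_2 r0_3))
theorem r1 : RngF (fun i e => ∃ J, chkS (enF enL) E D W1 DL1 subs 15485 1 i e J = true) F1 0 16384 := (RngF.brK (K := K) (f0 := (brF 4096 (fun _ => C1_0) (fun _ => C1_1))) (f1 := (brF 12288 (fun _ => C1_2) (fun _ => C1_3))) (RngF.brK (K := K) (f0 := (fun _ => C1_0)) (f1 := (fun _ => C1_1)) r1_0 r1_1) (RngF.brK (K := K) (f0 := (fun _ => C1_2)) (f1 := (fun _ => C1_3)) r1_2 r1_3))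
theorem r2 : RngF (fun i e => ∃ J, chkS (enF enL) E D W2 DL2 subs 15485 2 i e J = true) F2 0 16384 := (RngF.brK (K := K) (f0 := (brF 4096 (fun _ => C2_0) (fun _ => C2_1))) (f1 := (brF 12288 (fun _ => C2_2) (fun _ => C2_3))) (RngF.brK (K := K) (f0 := (fun _ => C2_0)) (f1 := (fun _ => C2_1)) r2_0 r2_1) (RngF.brK (K := K) (f0 := (fun _ => C2_2)) (f1 := (fun _ => C2_3)) r2_2 r2_3))
theorem r3 : RngF (fun i e => ∃ J, chkS (enF enL) E D W3 DL3 subs 15485 3 i e J = true) F3 0 16384 := (RngF.brK (K := K) (f0 := (brF 4096 (fun _ => C3_0) (fun _ => C3_1))) (f1 := (brF 12288 (fun _ => C3_2) (fun _ => C3_3))) (RngF.brK (K := K) (f0 := (fun _ => C3_0)) (f1 := (fun _ => C3_1)) r3_0 r3_1) (RngF.brK (K := K) (f0 := (fun _ => C3_2)) (f1 := (fun _ => C3_3)) r3_2 r3_3))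
theorem r4 : RngF (fun i e => ∃ J, chkS (enF enL) E D W4 DL4 subs 15485 4 i e J = true) F4 0 16384 := (RngF.brK (K := K) (f0 := (brF 4096 (fun _ => C4_0) (fun _ => C4_1))) (f1 := (brF 12288 (fun _ => C4_2) (fun _ => C4_3))) (RngF.brK (K := K) (f0 := (fun _ => C4_0)) (f1 := (fun _ => C4_1)) r4_0 r4_1) (RngF.brK (K := K) (f0 := (fun _ => C4_2)) (f1 := (fun _ => C4_3)) r4_2 r4_3))
theorem r5 : RngF (fun i e => ∃ J, chkS (enF enL) E D W5 DL5 subs 15485 5 i e J = true) F5 0 16384 := (RngF.brK (K := K) (f0 := (brF 4096 (fun _ => C5_0) (fun _ => C5_1))) (f1 := (brF 12288 (fun _ => C5_2) (fun _ => C5_3))) (RngF.brK (K := K) (f0 := (fun _ => C5_0)) (f1 := (fun _ => C5_1)) r5_0 r5_1) (RngF.brK (K := K) (f0 := (fun _ => C5_2)) (f1 := (fun _ => C5_3)) r5_2 r5_3))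
theorem r6 : RngF (fun i e => ∃ J, chkS (enF enL) E D W6 DL6 subs 15485 6 i e J = true) F6 0 16384 := (RngF.brK (K := K) (f0 := (brF 4096 (fun _ => C6_0) (fun _ => C6_1))) (f1 := (brF 12288 (fun _ => C6_2) (fun _ => C6_3))) (RngF.brK (K := K) (f0 := (fun _ => C6_0)) (f1 := (fun _ => C6_1)) r6_0 r6_1) (RngF.brK (K := K) (f0 := (fun _ => C6_2)) (f1 := (fun _ => C6_3)) r6_2 r6_3))
theorem r7 : RngF (fun i e => ∃ J, chkS (enF enL) E D W7 DL7 subs 15485 7 i e J = true) F7 0 16384 := (RngF.brK (K := K) (f0 := (brF 4096 (fun _ => C7_0) (fun _ => C7_1))) (f1 := (brF 12288 (fun _ => C7_2) (fun _ => C7_3))) (RngF.brK (K := K) (f0 := (fun _ => C7_0)) (f1 := (fun _ => C7_1)) r7_0 r7_1) (RngF.brK (K := K) (f0 := (fun _ => C7_2)) (f1 := (fun _ => C7_3)) r7_2 r7_3))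
theorem r8 : RngF (fun i e => ∃ J, chkS (enF enL) E D W8 DL8 subs 15485 8 i e J = true) F8 0 16384 := (RngF.brK (K := K) (f0 := (brF 4096 (fun _ => C8_0) (fun _ => C8_1))) (f1 := (brF 12288 (fun _ => C8_2) (fun _ => C8_3))) (RngF.brK (K := K) (f0 := (fun _ => C8_0)) (f1 := (fun _ => C8_1)) r8_0 r8_1) (RngF.brK (K := K) (f0 := (fun _ => C8_2)) (f1 := (fun _ => C8_3)) r8_2 r8_3))
theorem rE : RngF (fun i e => ∃ J, chkQ (enF enL) E WEL subE 15485 i e J = true) E 0 16384 := (RngF.brK (K := K) (f0 := (brF 4096 (fun _ => CE_0) (fun _ => CE_1))) (f1 := (brF 12288 (fun _ => CE_2) (fun _ => CE_3))) (RngF.brK (K := K) (f0 := (fun _ => CE_0)) (f1 := (fun _ => CE_1)) rE_0 rE_1) (RngF.brK (K := K) (f0 := (fun _ => CE_2)) (f1 := (fun _ => CE_3)) rE_2 rE_3))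

theorem hslot : ∀ g, g < gens.length → ∃ wl dl, wl = (WA.getD g []).map (List.map (enF enL)) ∧ dl = [id g].map (enF enL) ∧
    RngF (fun i e => ∃ J, chkS (enF enL) E D wl dl subs 15485 g i e J = true) (enF enL g) 0 (15485 + 1) := by
  intro g hg
  change g < 9 at hg
  interval_cases g
  · exact ⟨W0, DL0, hW0, rfl, r0.mono (by norm_num)⟩
  · exact ⟨W1, DL1, hW1, rfl, r1.mono (by norm_num)⟩
  · exact ⟨W2, DL2, hW2, rfl, r2.mono (by norm_num)⟩
  · exact ⟨W3, DL3, hW3, rfl, r3.mono (by norm_num)⟩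
  · exact ⟨W4, DL4, hW4, rfl, r4.mono (by norm_num)⟩
  · exact ⟨W5, DL5, hW5, rfl, r5.mono (by norm_num)⟩
  · exact ⟨W6, DL6, hW6, rfl, r6.mono (by norm_num)⟩
  · exact ⟨W7, DL7, hW7, rfl, r7.mono (by norm_num)⟩
  · exact ⟨W8, DL8, hW8, rfl, r8.mono (by norm_num)⟩

theorem facts : Facts (enF nxL) id 14080 gens.length 21 defs eqs bs hl (0 :: bs) :=
  facts_of_rng Z hZ (RngF.app z0 z1) (by norm_num)

theorem upper (H : Subgroup (CoxPresented Cfsg.Spor.Fi22.Gen Cfsg.Spor.Fi22.edges Cfsg.Spor.Fi22.extra))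
    (hH : H = Subgroup.closure {x | ∃ w ∈ hw, x = wp (ell gens (gn Cfsg.Spor.Fi22.edges Cfsg.Spor.Fi22.extra)) w}) :
    H.FiniteIndex ∧ H.index ≤ 14080 :=
  H34.T2.cox_upper hg hn H hw hH base hbase 15485 14080 14 enL E D WA HA WE HE subs subE WEL (by decide) (by norm_num) (by norm_num) (by norm_num) rfl
    (by decide +kernel) (by decide +kernel) (by decide +kernel) (by decide +kernel) (by decide +kernel) (by decide +kernel) (by decide +kernel) hWEL hslot (rE.mono (by norm_num)) (nbeq cN)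

theorem main (H : Subgroup (CoxPresented Cfsg.Spor.Fi22.Gen Cfsg.Spor.Fi22.edges Cfsg.Spor.Fi22.extra))
    (hH : H = Subgroup.closure {x | ∃ w ∈ hw, x = wp (ell gens (gn Cfsg.Spor.Fi22.edges Cfsg.Spor.Fi22.extra)) w}) :
    H.index = 14080 ∧ ∃ (φ : CoxPresented Cfsg.Spor.Fi22.Gen Cfsg.Spor.Fi22.edges Cfsg.Spor.Fi22.extra →* Equiv.Perm (Fin 14080))
      (e : CoxPresented Cfsg.Spor.Fi22.Gen Cfsg.Spor.Fi22.edges Cfsg.Spor.Fi22.extra ⧸ H ≃ Fin 14080),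
      IsPermT (enF nxL) 14080 21 ∧
      (∀ g < gens.length, φ (ell gens (gn Cfsg.Spor.Fi22.edges Cfsg.Spor.Fi22.extra) g) = permT (enF nxL) 14080 g) ∧
      (∀ (g : CoxPresented Cfsg.Spor.Fi22.Gen Cfsg.Spor.Fi22.edges Cfsg.Spor.Fi22.extra) (q : CoxPresented Cfsg.Spor.Fi22.Gen Cfsg.Spor.Fi22.edges Cfsg.Spor.Fi22.extra ⧸ H), e (g • q) = φ g (e q)) ∧
      e ((1 : CoxPresented Cfsg.Spor.Fi22.Gen Cfsg.Spor.Fi22.edges Cfsg.Spor.Fi22.extra) : CoxPresented Cfsg.Spor.Fi22.Gen Cfsg.Spor.Fi22.edges Cfsg.Spor.Fi22.extra ⧸ H) = ⟨0, by norm_num⟩ ∧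
      (∀ i : Fin 14080, ∃ g, φ g ⟨0, by norm_num⟩ = i) ∧
      ∀ (lo hi : Nat) (hlo : lo < 14080), hi ≤ 14080 → blkOK bs lo hi 14080 = true →
        (MulAction.orbit H (e.symm ⟨lo, hlo⟩)).ncard = hi - lo ∧
        ∀ q, q ∈ MulAction.orbit H (e.symm ⟨lo, hlo⟩) ↔ (lo ≤ (e q : Nat) ∧ (e q : Nat) < hi) :=
  H34.T2.cox_exact hg hnd H hw hH base hrel 14080 (by norm_num) (upper H hH) nxL 21 defs exps eqs bs hl facts
    (by decide +kernel) (by decide +kernel) (by decide +kernel) (by decide +kernel) (by decide +kernel)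

end H34.Fi22b
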